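import Mathlib.RingTheory.AdicCompletion.Basic
import Mathlib.RingTheory.AdicCompletion.AsTensorProduct
import Mathlib.RingTheory.LocalRing.Module
import Mathlib.RingTheory.LocalRing.Quotient
import Mathlib.RingTheory.LocalRing.ResidueField.Basic
import Mathlib.RingTheory.Filtration

/-!
# Completion of a module whose reductions are free
-/

set_option autoImplicit false
set_option linter.style.haveILetI false

universe u

open TensorProduct IsLocalRing

namespace ImperfLib

variable {B : Type u} [CommRing B] [IsLocalRing B] {M : Type u} [AddCommGroup M] [Module B M]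

/-- Elements lifting a basis at the closed point stay independent modulo powers of the maximal ideal. -/
theorem mem_smul_of_sum_mem {d : ℕ} (v : Fin d → M)
    (hv : ∀ b : Fin d → B, ∑ i, b i • v i ∈ maximalIdeal B • (⊤ : Submodule B M) → ∀ i, b i ∈ maximalIdeal B)
    (n : ℕ) [Module.Flat (B ⧸ maximalIdeal B ^ (n + 1)) ((B ⧸ maximalIdeal B ^ (n + 1)) ⊗[B] M)]
    (b : Fin d → B) (hb : ∑ i, b i • v i ∈ maximalIdeal B ^ (n + 1) • (⊤ : Submodule B M)) :
    ∀ i, b i ∈ maximalIdeal B ^ (n + 1) := by
  let I := maximalIdeal B ^ (n + 1)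
  haveI : Nontrivial (B ⧸ I) := Ideal.Quotient.nontrivial_iff.2
    (ne_top_of_le_ne_top (maximalIdeal.isMaximal B).ne_top (Ideal.pow_le_self n.succ_ne_zero))
  haveI : IsLocalRing (B ⧸ I) := IsLocalRing.of_surjective' _ Ideal.Quotient.mk_surjective
  let k := ResidueField (B ⧸ I)
  let F := (B ⧸ I) ⊗[B] M
  let w : Fin d → F := fun i => (1 : B ⧸ I) ⊗ₜ v i
  have hlin : ∀ c : Fin d → B, ∑ i, (Ideal.Quotient.mk I (c i)) • w i = (1 : B ⧸ I) ⊗ₜ (∑ i, c i • v i) := fun c => by
    rw [TensorProduct.tmul_sum]
    refine Finset.sum_congr rfl fun i _ => ?_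
    rw [TensorProduct.tmul_smul, ← algebraMap_smul (B ⧸ I) (c i)]
    rfl
  have hmI : maximalIdeal (B ⧸ I) = (maximalIdeal B).map (Ideal.Quotient.mk I) :=
    (IsLocalRing.map_maximalIdeal_of_surjective _ Ideal.Quotient.mk_surjective).symm
  have hle : ((maximalIdeal (B ⧸ I)) • (⊤ : Submodule (B ⧸ I) F)).restrictScalars B ≤
      maximalIdeal B • (⊤ : Submodule B F) := by
    intro z hz
    refine Submodule.smul_induction_on (p := fun y => y ∈ maximalIdeal B • (⊤ : Submodule B F))
      (show z ∈ maximalIdeal (B ⧸ I) • (⊤ : Submodule (B ⧸ I) F) from hz) (fun r hr f _ => ?_)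
      fun x y hx hy => add_mem hx hy
    rw [hmI, Ideal.mem_map_iff_of_surjective _ Ideal.Quotient.mk_surjective] at hr
    obtain ⟨r, hr, rfl⟩ := hr
    rw [show Ideal.Quotient.mk I r = algebraMap B (B ⧸ I) r from rfl, algebraMap_smul]
    exact Submodule.smul_mem_smul hr trivial
  have hli : LinearIndependent (B ⧸ I) w := by
    refine Module.IsLocalRing.linearIndependent_of_flat w (Fintype.linearIndependent_iff.2 fun g hg i => ?_)
    choose r hr using fun i => (residue_surjective.comp Ideal.Quotient.mk_surjective) (g i)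
    have h1 : (1 : k) ⊗ₜ[B ⧸ I] ((1 : B ⧸ I) ⊗ₜ[B] (∑ i, r i • v i)) = 0 := by
      rw [← hlin, TensorProduct.tmul_sum]
      refine Eq.trans (Finset.sum_congr rfl fun j _ => ?_) hg
      show (1 : k) ⊗ₜ (Ideal.Quotient.mk I (r j) • w j) = g j • ((1 : k) ⊗ₜ w j)
      rw [TensorProduct.tmul_smul, ← hr j, ← algebraMap_smul k (Ideal.Quotient.mk I (r j))]
      rfl
    have h2 : (1 : B ⧸ I) ⊗ₜ[B] (∑ i, r i • v i) ∈ maximalIdeal B • (⊤ : Submodule B F) :=
      hle (by
        show _ ∈ maximalIdeal (B ⧸ I) • (⊤ : Submodule (B ⧸ I) F)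
        rw [← LinearMap.ker_tensorProductMk]
        exact h1)
    have hmap : maximalIdeal B • (⊤ : Submodule B F) =
        (maximalIdeal B • (⊤ : Submodule B M)).map (TensorProduct.mk B (B ⧸ I) M 1) := by
      rw [Submodule.map_smul'', Submodule.map_top, LinearMap.range_eq_top.2
        (TensorProduct.mk_surjective B M (B ⧸ I) Ideal.Quotient.mk_surjective)]
    rw [hmap] at h2
    obtain ⟨m, hm, hmeq⟩ := h2
    have h3 : m - ∑ i, r i • v i ∈ I • (⊤ : Submodule B M) := by
      rw [← LinearMap.ker_tensorProductMk, LinearMap.mem_ker, map_sub, sub_eq_zero]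
      exact hmeq
    have h4 : ∑ i, r i • v i ∈ maximalIdeal B • (⊤ : Submodule B M) := by
      simpa using sub_mem hm (Submodule.smul_mono_left (Ideal.pow_le_self n.succ_ne_zero) h3)
    rw [← hr i]
    show residue (B ⧸ I) (Ideal.Quotient.mk I (r i)) = 0
    rw [residue_eq_zero_iff, hmI]
    exact Ideal.mem_map_of_mem _ (hv r h4 i)
  intro i
  refine Ideal.Quotient.eq_zero_iff_mem.1 ((Fintype.linearIndependent_iff.1 hli) (fun i => Ideal.Quotient.mk I (b i)) ?_ i)
  rw [hlin]
  rw [← LinearMap.ker_tensorProductMk, LinearMap.mem_ker] at hb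
  exact hb

/-- A module with free reductions and finite dimensional closed fibre has free completion. -/
theorem completion_free [IsNoetherianRing B] [IsAdicComplete (maximalIdeal B) B]
    [Module.Finite (ResidueField B) (ResidueField B ⊗[B] M)]
    (hflat : ∀ n : ℕ, Module.Flat (B ⧸ maximalIdeal B ^ (n + 1)) ((B ⧸ maximalIdeal B ^ (n + 1)) ⊗[B] M)) :
    Module.Finite B (AdicCompletion (maximalIdeal B) M) ∧ Module.Free B (AdicCompletion (maximalIdeal B) M) ∧
      Module.finrank B (AdicCompletion (maximalIdeal B) M) =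
        Module.finrank (ResidueField B) (ResidueField B ⊗[B] M) := by
  let m := maximalIdeal B
  let k := ResidueField B
  let d := Module.finrank k (k ⊗[B] M)
  let bk := Module.finBasis k (k ⊗[B] M)
  choose v hv' using fun i => TensorProduct.mk_surjective B M k residue_surjective (bk i)
  have hker : ∀ x : M, (1 : k) ⊗ₜ[B] x = 0 ↔ x ∈ m • (⊤ : Submodule B M) := fun x => by
    show x ∈ LinearMap.ker (TensorProduct.mk B (B ⧸ m) M 1) ↔ _
    rw [LinearMap.ker_tensorProductMk]
  have hsum : ∀ b : Fin d → B, (1 : k) ⊗ₜ[B] (∑ i, b i • v i) = ∑ i, residue B (b i) • bk i := fun b => by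
    rw [TensorProduct.tmul_sum]
    refine Finset.sum_congr rfl fun i _ => ?_
    rw [TensorProduct.tmul_smul, show (1 : k) ⊗ₜ[B] v i = bk i from hv' i]
    exact (algebraMap_smul k (b i) (bk i)).symm
  have hv : ∀ b : Fin d → B, ∑ i, b i • v i ∈ m • (⊤ : Submodule B M) → ∀ i, b i ∈ m := fun b hb i => by
    rw [← hker, hsum] at hb
    exact (residue_eq_zero_iff _).1 ((Fintype.linearIndependent_iff.1 bk.linearIndependent) _ hb i)
  let φ : (Fin d → B) →ₗ[B] M := Fintype.linearCombination B v
  have hspan : (⊤ : Submodule B M) ≤ LinearMap.range φ ⊔ m • ⊤ := fun x _ => by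
    choose b hb using fun i => residue_surjective (bk.repr ((1 : k) ⊗ₜ[B] x) i)
    rw [show x = φ b + (x - φ b) by rw [add_sub_cancel]]
    refine Submodule.add_mem_sup ⟨b, rfl⟩ ((hker _).1 ?_)
    rw [TensorProduct.tmul_sub, sub_eq_zero, show φ b = ∑ i, b i • v i from Fintype.linearCombination_apply B v b,
      hsum]
    simp only [hb]
    exact (bk.sum_repr _).symm
  have htop : ∀ j : ℕ, (⊤ : Submodule B M) ≤ LinearMap.range φ ⊔ m ^ j • ⊤ := by
    intro j
    induction j with
    | zero => simp
    | succ j ih =>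
      refine hspan.trans (sup_le le_sup_left ?_)
      refine (Submodule.smul_mono le_rfl ih).trans ?_
      rw [Submodule.smul_sup, ← mul_smul, ← pow_succ']
      exact sup_le (Submodule.smul_le_right.trans le_sup_left) le_sup_right
  have hinj : ∀ (n : ℕ) (b : Fin d → B), φ b ∈ m ^ n • (⊤ : Submodule B M) → ∀ i, b i ∈ m ^ n := by
    rintro (_ | n) b hb i
    · simp
    · haveI := hflat n
      rw [show φ b = ∑ i, b i • v i from Fintype.linearCombination_apply B v b] at hb
      exact mem_smul_of_sum_mem v hv n b hb i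
  let Φ : (Fin d → B) →ₗ[B] AdicCompletion m M := (AdicCompletion.of m M).comp φ
  have hΦ : Function.Bijective Φ := by
    refine ⟨(injective_iff_map_eq_zero _).2 fun b hb => funext fun i => ?_, fun y => ?_⟩
    · refine IsHausdorff.haus' (I := m) _ fun n => ?_
      rw [SModEq.zero, smul_eq_mul, Ideal.mul_top]
      refine hinj n b ?_ i
      have h1 := congrArg (fun z : AdicCompletion m M => z.val n) hb
      exact (Submodule.Quotient.mk_eq_zero _).1 h1
    · choose b hb using fun n => show ∃ b : Fin d → B, Submodule.Quotient.mk (φ b) = y.val n by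
        obtain ⟨x, hx⟩ := Submodule.Quotient.mk_surjective _ (y.val n)
        obtain ⟨_, ⟨b, rfl⟩, z, hz, hxz⟩ := Submodule.mem_sup.1 (htop n (show x ∈ (⊤ : Submodule B M) from trivial))
        refine ⟨b, ?_⟩
        rw [← hx, Submodule.Quotient.eq, ← hxz]
        simpa using neg_mem hz
      have hc : ∀ {l n : ℕ}, l ≤ n → ∀ i, b l i - b n i ∈ m ^ l := fun {l n} hln i => by
        refine hinj l (b l - b n) ?_ i
        rw [map_sub, ← Submodule.Quotient.eq, hb, ← y.2 hln, ← hb n]
        rfl
      choose L hL using fun i => IsPrecomplete.prec' (I := m) (fun n => b n i) fun {l n} hln => by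
        rw [SModEq.sub_mem, smul_eq_mul, Ideal.mul_top]
        exact hc hln i
      refine ⟨L, AdicCompletion.ext fun n => ?_⟩
      show Submodule.Quotient.mk (φ L) = y.val n
      rw [← hb n, Submodule.Quotient.eq, ← map_sub]
      rw [show φ (L - b n) = ∑ i, (L - b n) i • v i from Fintype.linearCombination_apply B v _]
      refine Submodule.sum_mem _ fun i _ => Submodule.smul_mem_smul ?_ trivial
      have h2 := hL i n
      rw [SModEq.sub_mem, smul_eq_mul, Ideal.mul_top] at h2
      simpa using neg_mem h2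
  let e := LinearEquiv.ofBijective Φ hΦ
  exact ⟨Module.Finite.equiv e, Module.Free.of_equiv e, by rw [← e.finrank_eq, Module.finrank_fin_fun]⟩

end ImperfLib
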