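import Groth.Agent.ImperfLib.Main
import Groth.Agent.WeilLib.Dim
import Groth.Agent.FibDimLib.Formula
import Mathlib.RingTheory.Kaehler.Polynomial
import Mathlib.RingTheory.Etale.Kaehler
import Mathlib.RingTheory.EssentialFiniteness
import Mathlib.RingTheory.Localization.AtPrime.Basic
import Mathlib.RingTheory.TensorProduct.Free

/-!
# The transcendence degree as an index
-/

set_option autoImplicit false
set_option linter.style.haveILetI false

universe u

open TensorProduct IsLocalRing

namespace ImperfLib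

/-- For a finitely generated field extension the transcendence degree is the index of the map on differentials. -/
theorem index_eq_trdeg (K L : Type u) [Field K] [Field L] [Algebra K L] [Algebra.EssFiniteType K L] :
    Module.Finite L Ω[L⁄K] ∧ Module.Finite L (EGA41.imperfection ℤ K L) ∧
      Module.finrank L Ω[L⁄K] =
        Module.finrank L (EGA41.imperfection ℤ K L) + Cardinal.toNat (Algebra.trdeg K L) := by
  classical
  let s := Algebra.EssFiniteType.finset K L
  let n := s.card
  let x : Fin n → L := fun i => (s.equivFin.symm i).1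
  let π : MvPolynomial (Fin n) K →ₐ[K] L := MvPolynomial.aeval x
  let S₀ := Algebra.EssFiniteType.subalgebra K L
  have hrange : π.range = S₀ := by
    rw [← Algebra.adjoin_range_eq_range_aeval]
    refine congrArg (Algebra.adjoin K) (Set.ext fun y => ⟨fun ⟨i, hi⟩ => hi ▸ (s.equivFin.symm i).2, fun hy => ?_⟩)
    exact ⟨s.equivFin ⟨y, hy⟩, by simp [x]⟩
  let p : Ideal (MvPolynomial (Fin n) K) := RingHom.ker π
  haveI : p.IsPrime := RingHom.ker_isPrime _
  let A := Localization.AtPrime p
  have hunit : ∀ y : p.primeCompl, IsUnit (π y) := fun y => isUnit_iff_ne_zero.2 fun h => y.2 (RingHom.mem_ker.2 h)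
  let φ : A →ₐ[K] L := IsLocalization.liftAlgHom (M := p.primeCompl) (f := π) hunit
  letI : Algebra A L := φ.toRingHom.toAlgebra
  haveI : IsScalarTower K A L := IsScalarTower.of_algebraMap_eq fun c => (φ.commutes c).symm
  have hφ : ∀ q, φ (algebraMap (MvPolynomial (Fin n) K) A q) = π q := fun q => IsLocalization.lift_eq hunit q
  have hfrac : ∀ z : L, ∃ a b : MvPolynomial (Fin n) K, π b ≠ 0 ∧ z * π b = π a := fun z => by
    obtain ⟨⟨⟨a, ha⟩, ⟨⟨b, hb⟩, hbu⟩⟩, h⟩ := IsLocalization.surj (Algebra.EssFiniteType.submonoid K L) z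
    obtain ⟨a', ha'⟩ := hrange.ge ha
    obtain ⟨b', hb'⟩ := hrange.ge hb
    have hb0 : b ≠ 0 := isUnit_iff_ne_zero.1 hbu
    exact ⟨a', b', fun h0 => hb0 (hb'.symm.trans h0), by
      rw [show π b' = b from hb', show π a' = a from ha']; exact h⟩
  have hs : Function.Surjective (algebraMap A L) := fun z => by
    obtain ⟨a, b, hb, h⟩ := hfrac z
    let q : p.primeCompl := ⟨b, fun hmem => hb (RingHom.mem_ker.1 hmem)⟩
    refine ⟨IsLocalization.mk' A a q, mul_right_cancel₀ hb ?_⟩
    have h2 : φ (IsLocalization.mk' A a q) * φ (algebraMap (MvPolynomial (Fin n) K) A q.1) =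
        φ (algebraMap (MvPolynomial (Fin n) K) A a) := by
      rw [← map_mul, IsLocalization.mk'_spec]
    rw [hφ, hφ] at h2
    exact h2.trans h.symm
  haveI : IsScalarTower K (MvPolynomial (Fin n) K) A := inferInstance
  haveI : Algebra.FormallySmooth (MvPolynomial (Fin n) K) A :=
    haveI := Algebra.FormallyEtale.of_isLocalization (Rₘ := A) p.primeCompl
    inferInstance
  haveI : Algebra.FormallySmooth K A := Algebra.FormallySmooth.comp K (MvPolynomial (Fin n) K) A
  have hfs : CAlgX.IsAdicFormallySmooth K A (maximalIdeal A) := fun C _ _ J hJ ψ _ =>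
    ⟨Algebra.FormallySmooth.lift J ⟨2, hJ⟩ ψ, Algebra.FormallySmooth.comp_lift J ⟨2, hJ⟩ ψ⟩
  obtain ⟨d, hd, h1, h2, h3, h4⟩ := adicFS_formula (k := K) (A := A) L hfs hs
  -- differentials of the localised polynomial ring
  let b : Module.Basis (Fin n) A Ω[A⁄K] := (KaehlerDifferential.mvPolynomialBasis K (Fin n)).ofIsLocalizedModule A
    p.primeCompl (KaehlerDifferential.map K K (MvPolynomial (Fin n) K) A)
  haveI : Module.Finite L (L ⊗[A] Ω[A⁄K]) := Module.Finite.of_basis (Algebra.TensorProduct.basis L b)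
  have hZ : Module.finrank L (L ⊗[A] Ω[A⁄K]) = n :=
    (Module.finrank_eq_card_basis (Algebra.TensorProduct.basis L b)).trans (Fintype.card_fin n)
  have hΩ := h3 inferInstance
  obtain ⟨-, h5⟩ := h4 hΩ
  refine ⟨hΩ, h1, ?_⟩
  -- the dimension formula
  haveI : Algebra.FiniteType K S₀ := inferInstance
  haveI : IsFractionRing S₀ L := IsFractionRing.of_field _ _ fun z => by
    obtain ⟨a, c, hc, h⟩ := hfrac z
    exact ⟨⟨π a, hrange ▸ ⟨a, rfl⟩⟩, ⟨π c, hrange ▸ ⟨c, rfl⟩⟩, (eq_div_iff hc).2 h⟩
  obtain ⟨t, ht, htr⟩ := WeilLib.dim_eq_trdeg K S₀ L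
  have e : ringKrullDim (MvPolynomial (Fin n) K ⧸ p) = t := by
    rw [← ht, ← hrange]
    exact ringKrullDim_eq_of_ringEquiv (Ideal.quotientKerAlgEquivOfSurjective π.rangeRestrict_surjective |>.toRingEquiv
      |> (Ideal.quotEquivOfEq (show p = RingHom.ker π.rangeRestrict from Ideal.ext fun q => by
        simp [p, RingHom.mem_ker, Subtype.ext_iff])).trans)
  have hdim := FibDimLib.ringKrullDim_quotient_add_height_affine K (MvPolynomial (Fin n) K) p
  rw [e, ← IsLocalization.AtPrime.ringKrullDim_eq_height p A, hd, MvPolynomial.ringKrullDim_of_isNoetherianRing,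
    ringKrullDim_eq_zero_of_field, zero_add, Nat.card_eq_fintype_card, Fintype.card_fin] at hdim
  have hnat : t + d = n := by exact_mod_cast hdim
  rw [htr, Cardinal.toNat_natCast]
  omega

end ImperfLib
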