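import Groth.Agent.ImperfLib.Formula
import Groth.Agent.ImperfLib.FieldExt
import Mathlib.RingTheory.AlgebraicIndependent.Transcendental

/-!
# The module of imperfection in a finite tower
-/

set_option autoImplicit false
set_option linter.style.haveILetI false
set_option maxHeartbeats 1000000

universe u

open TensorProduct

namespace ImperfLib

/-- If derivations of the base extend, the base change of its differentials injects. -/
theorem injective_mapBaseChange_of_extend (k K : Type u) [Field k] [Field K] [Algebra k K]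
    (h : ∀ D : Derivation ℤ k k, ∃ D' : Derivation ℤ K K, ∀ c, D' (algebraMap k K c) = algebraMap k K (D c)) :
    Function.Injective (KaehlerDifferential.mapBaseChange ℤ k K) := by
  classical
  let b := Module.Free.chooseBasis k Ω[k⁄ℤ]
  let bK := Algebra.TensorProduct.basis K b
  choose D hD using fun i => h ((b.coord i).compDer (KaehlerDifferential.D ℤ k))
  have key : ∀ i z, (D i).liftKaehlerDifferential (KaehlerDifferential.mapBaseChange ℤ k K z) = bK.repr z i := by
    intro i z
    induction z using TensorProduct.induction_on with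
    | zero => simp
    | add x y hx hy => rw [map_add, map_add, hx, hy, map_add, Finsupp.add_apply]
    | tmul a w =>
      rw [KaehlerDifferential.mapBaseChange_tmul, map_smul, Algebra.TensorProduct.basis_repr_tmul, Finsupp.smul_apply,
        Finsupp.mapRange_apply, smul_eq_mul, smul_eq_mul]
      congr 1
      have hw : w ∈ Submodule.span k (Set.range (KaehlerDifferential.D ℤ k)) := by
        rw [KaehlerDifferential.span_range_derivation]; trivial
      induction hw using Submodule.span_induction with
      | mem y hy =>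
        obtain ⟨c, rfl⟩ := hy
        rw [KaehlerDifferential.map_D, Derivation.liftKaehlerDifferential_comp_D, hD]
        rfl
      | zero => simp
      | add x y _ _ hx hy => rw [map_add, map_add, hx, hy, map_add, Finsupp.add_apply, map_add]
      | smul c x _ hx =>
        rw [map_smul, ← algebraMap_smul K c, map_smul, hx, map_smul, Finsupp.smul_apply, smul_eq_mul, smul_eq_mul,
          map_mul]
  rw [injective_iff_map_eq_zero]
  intro z hz
  refine bK.repr.injective (Finsupp.ext fun i => ?_)
  rw [← key i z, hz, map_zero, map_zero, Finsupp.zero_apply]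

/-- In a finite extension of a separable extension the index of the differentials is unchanged. -/
theorem tower_formula (k K L : Type u) [Field k] [Field K] [Field L] [Algebra k K] [Algebra K L] [Algebra k L]
    [IsScalarTower k K L] [Module.Finite K L]
    (hinj : Function.Injective (KaehlerDifferential.mapBaseChange ℤ k K)) :
    Module.Finite L (LinearMap.ker (KaehlerDifferential.mapBaseChange ℤ k L)) ∧
      (Module.Finite L Ω[L⁄k] → Module.Finite L (L ⊗[K] Ω[K⁄k])) ∧
      (Module.Finite L (L ⊗[K] Ω[K⁄k]) → Module.Finite L Ω[L⁄k] ∧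
        Module.finrank L Ω[L⁄k] = Module.finrank L (L ⊗[K] Ω[K⁄k]) +
          Module.finrank L (LinearMap.ker (KaehlerDifferential.mapBaseChange ℤ k L))) := by
  classical
  obtain ⟨hΩ, hU, hUeq⟩ := index_eq_trdeg K L
  haveI : Algebra.IsAlgebraic K L := Algebra.IsAlgebraic.of_finite K L
  rw [trdeg_eq_zero, map_zero, add_zero] at hUeq
  let β := KaehlerDifferential.mapBaseChange ℤ K L
  let U := LinearMap.ker β
  haveI : Module.Finite L U := hU
  let α := fromBase k K L
  have hα : Function.Injective α :=
    (Module.Flat.lTensor_preserves_injective_linearMap (M := L) _ hinj).comp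
      (AlgebraTensorModule.cancelBaseChange k K L L Ω[k⁄ℤ]).symm.injective
  let γ := KaehlerDifferential.mapBaseChange ℤ k L
  have hγ : β ∘ₗ α = γ := comp_fromBase k K L
  obtain ⟨f1, -, f3, f4⟩ := finrank_formula (K := L) (C := U) U.subtype β.rangeRestrict α (toRel k K L)
    U.injective_subtype hα (fun x => by
      rw [Set.mem_range]
      exact ⟨fun h => ⟨⟨x, congrArg Subtype.val h⟩, rfl⟩, fun ⟨y, hy⟩ => hy ▸ Subtype.ext y.2⟩)
    β.surjective_rangeRestrict (exact_fromBase_toRel k K L) (toRel_surjective k K L)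
  have hker : LinearMap.ker (β.rangeRestrict ∘ₗ α) = LinearMap.ker γ := by
    rw [← hγ, LinearMap.ker_comp, LinearMap.ker_comp, LinearMap.ker_rangeRestrict]
  rw [hker] at f1 f4
  -- the cokernel of the composite
  let W := LinearMap.range γ
  let Q := LinearMap.range β
  have hWQ : W ≤ Q := by
    show LinearMap.range γ ≤ LinearMap.range β
    rw [← hγ]
    exact LinearMap.range_comp_le_range α β
  have hcomap : LinearMap.range (β.rangeRestrict ∘ₗ α) = LinearMap.ker (W.mkQ ∘ₗ Q.subtype) := by
    rw [LinearMap.ker_comp, Submodule.ker_mkQ]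
    ext z
    rw [LinearMap.mem_range, Submodule.mem_comap]
    refine ⟨fun ⟨y, hy⟩ => ⟨y, (LinearMap.congr_fun hγ y).symm.trans (congrArg Subtype.val hy)⟩, fun ⟨y, hy⟩ =>
      ⟨y, Subtype.ext ((LinearMap.congr_fun hγ y).trans hy)⟩⟩
  let e : ((Q : Submodule L Ω[L⁄ℤ]) ⧸ LinearMap.range (β.rangeRestrict ∘ₗ α)) ≃ₗ[L] Q.map W.mkQ :=
    ((Submodule.quotEquivOfEq _ _ hcomap).trans (W.mkQ ∘ₗ Q.subtype).quotKerEquivRange).trans
      (LinearEquiv.ofEq _ _ (by rw [LinearMap.range_comp, Submodule.range_subtype]))
  let eW : ((Ω[L⁄ℤ]) ⧸ W) ≃ₗ[L] Ω[L⁄k] :=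
    (Submodule.quotEquivOfEq _ _ (KaehlerDifferential.range_mapBaseChange ℤ k L)).trans
      (LinearMap.quotKerEquivOfSurjective _ (KaehlerDifferential.map_surjective ℤ k L))
  let eQ : (((Ω[L⁄ℤ]) ⧸ W) ⧸ Q.map W.mkQ) ≃ₗ[L] Ω[L⁄K] :=
    (Submodule.quotientQuotientEquivQuotient W Q hWQ).trans
      ((Submodule.quotEquivOfEq _ _ (KaehlerDifferential.range_mapBaseChange ℤ K L)).trans
        (LinearMap.quotKerEquivOfSurjective _ (KaehlerDifferential.map_surjective ℤ K L)))
  haveI : Module.Finite L (((Ω[L⁄ℤ]) ⧸ W) ⧸ Q.map W.mkQ) := Module.Finite.equiv eQ.symm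
  refine ⟨f1, fun h => ?_, fun h => ?_⟩
  · haveI : Module.Finite L ((Ω[L⁄ℤ]) ⧸ W) := Module.Finite.equiv eW.symm
    exact (f4 (Module.Finite.equiv e.symm)).1
  · haveI hC := f3 h
    haveI : Module.Finite L (Q.map W.mkQ) := Module.Finite.equiv e
    haveI : Module.Finite L ((Ω[L⁄ℤ]) ⧸ W) := Module.Finite.of_submodule_quotient (Q.map W.mkQ)
    refine ⟨Module.Finite.equiv eW, ?_⟩
    have h5 := (f4 hC).2
    rw [e.finrank_eq] at h5
    rw [← eW.finrank_eq, ← Submodule.finrank_quotient_add_finrank (Q.map W.mkQ), eQ.finrank_eq, hUeq]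
    have h6 : Module.finrank L U = Module.finrank L (EGA41.imperfection ℤ K L) := rfl
    have h7 : Module.finrank L (LinearMap.ker γ) = Module.finrank L (LinearMap.ker (KaehlerDifferential.mapBaseChange ℤ k L)) := rfl
    omega

end ImperfLib
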