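import Groth.Agent.ImperfLib.Main
import Groth.Agent.CohenLib.DerExt
import Groth.Prelude.Def_EGA41
import Mathlib.LinearAlgebra.FiniteDimensional.Lemmas

/-!
# Complete formally smooth algebras with a given residue field
-/

set_option autoImplicit false
set_option linter.style.haveILetI false
set_option maxHeartbeats 600000

universe u

open TensorProduct IsLocalRing

namespace ImperfLib

/-- A regular local algebra is formally smooth if derivations of the base into the residue field extend. -/
theorem adicFS_of_extend {k K R : Type u} [Field k] [Field K] [Algebra k K] [CommRing R] [IsRegularLocalRing R]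
    [Algebra k R] (e : ResidueField R ≃ₐ[k] K)
    (h : ∀ D₁ : Derivation ℤ k K, ∃ E : R → K, (∀ f f', E (f + f') = E f + E f') ∧
      (∀ f f', E (f * f') = e (residue R f) * E f' + e (residue R f') * E f) ∧ ∀ c, E (algebraMap k R c) = D₁ c) :
    CAlgX.IsAdicFormallySmooth k R (maximalIdeal R) := by
  refine fun C _ _ J hJ ψ hψ => CohenLib.liftsAdic_of_injective ?_ C J hJ ψ hψ
  rw [CohenLib.injective_lTensor_iff]
  intro D₀
  obtain ⟨E, hEadd, hEmul, hEk⟩ := h (e.toLinearMap.compDer D₀)
  refine ⟨Derivation.mk' (e.symm.toAddEquiv.toAddMonoidHom.comp (AddMonoidHom.mk' E hEadd)).toIntLinearMap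
    fun f f' => ?_, fun c => ?_⟩
  · show e.symm (E (f * f')) = f • e.symm (E f') + f' • e.symm (E f)
    refine e.injective ?_
    rw [e.apply_symm_apply, map_add, Algebra.smul_def, Algebra.smul_def, map_mul, map_mul, e.apply_symm_apply,
      e.apply_symm_apply, ResidueField.algebraMap_eq, hEmul]
  · show e.symm (E (algebraMap k R c)) = D₀ c
    refine e.symm_apply_eq.2 ?_
    rw [hEk]
    rfl

/-- A field extension with finite imperfection is the residue field of a formally smooth power series ring. -/
theorem exists_adicFS (k K : Type u) [Field k] [Field K] [Algebra k K]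
    [Module.Finite K (EGA41.imperfection ℤ k K)] (n : ℕ) (hn : Module.finrank K (EGA41.imperfection ℤ k K) ≤ n) :
    ∃ (A : Type u) (_ : CommRing A) (_ : IsLocalRing A) (_ : IsNoetherianRing A) (_ : Algebra k A),
      IsAdicComplete (maximalIdeal A) A ∧ CAlgX.IsAdicFormallySmooth k A (maximalIdeal A) ∧
      Nonempty (ResidueField A ≃ₐ[k] K) ∧ ringKrullDim A = n := by
  classical
  obtain ⟨P, hP, hPD⟩ := CohenLib.exists_perfect_subfield k
  haveI : Algebra.FormallySmooth P k := Groth.Agent.PerfectFieldLib.formallySmooth_of_perfectField P k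
  let m := KaehlerDifferential.mapBaseChange ℤ k K
  let Υ := EGA41.imperfection ℤ k K
  let υ := Module.finrank K Υ
  haveI : Module.Free K Υ := Module.Free.of_divisionRing K Υ
  let b := Module.finBasis K Υ
  -- functionals dual to a basis of the imperfection module
  have hlam : ∀ i : Fin n, ∃ l : K ⊗[k] Ω[k⁄ℤ] →ₗ[K] K, ∀ j : Fin υ, l (b j).1 = if (j : ℕ) = i then 1 else 0 := by
    intro i
    obtain ⟨l, hl⟩ := LinearMap.exists_extend (b.constr K fun j : Fin υ => if (j : ℕ) = i then (1 : K) else 0)
    exact ⟨l, fun j => (LinearMap.congr_fun hl (b j)).trans (b.constr_basis K _ j)⟩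
  choose lam hlam using hlam
  let D : Fin n → k → K := fun i c => lam i ((1 : K) ⊗ₜ KaehlerDifferential.D ℤ k c)
  have hDadd : ∀ i x y, D i (x + y) = D i x + D i y := fun i x y => by
    simp only [D, map_add, TensorProduct.tmul_add]
  have hDmul : ∀ i x y, D i (x * y) = algebraMap k K x * D i y + algebraMap k K y * D i x := fun i x y => by
    simp only [D, Derivation.leibniz, map_add, TensorProduct.tmul_add, TensorProduct.tmul_smul]
    rw [← algebraMap_smul K x, ← algebraMap_smul K y, map_smul, map_smul]
    rfl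
  have hD1 : ∀ i, D i 1 = 0 := fun i => by
    simp only [D, Derivation.map_one_eq_zero, TensorProduct.tmul_zero, map_zero]
  let R := MvPowerSeries (Fin n) K
  haveI : IsRegularLocalRing R := CohenLib.isRegularLocalRing_mvPowerSeries K n
  let 𝔫 := CohenLib.varsIdeal K n
  haveI : IsAdicComplete 𝔫 R := CohenLib.isAdicComplete_varsIdeal K (n := n)
  let N : k → R := fun c => ∑ i, MvPowerSeries.C (D i c) * MvPowerSeries.X i
  have hN : ∀ c, N c ∈ 𝔫 := fun c => Submodule.sum_mem _ fun i _ => Ideal.mul_mem_left _ _ (Ideal.subset_span ⟨i, rfl⟩)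
  let F : k → R := fun c => MvPowerSeries.C (algebraMap k K c) + N c
  have hFadd : ∀ x y, F (x + y) = F x + F y := fun x y => by
    simp only [F, N, map_add, hDadd, add_mul, Finset.sum_add_distrib]
    ring
  have hFmul : ∀ x y, F x * F y - F (x * y) ∈ 𝔫 ^ 2 := fun x y => by
    have h1 : F x * F y - F (x * y) = N x * N y := by
      have h2 : N (x * y) = MvPowerSeries.C (algebraMap k K x) * N y + MvPowerSeries.C (algebraMap k K y) * N x := by
        simp only [N, hDmul, map_add, map_mul, add_mul, Finset.sum_add_distrib, Finset.mul_sum, mul_assoc]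
      simp only [F, h2, map_mul]
      ring
    rw [h1, pow_two]
    exact Ideal.mul_mem_mul (hN x) (hN y)
  let f₀ : k →+* R ⧸ 𝔫 ^ 2 :=
    { toFun := fun c => Ideal.Quotient.mk _ (F c)
      map_one' := by
        simp [F, N, hD1]
      map_mul' := fun x y => by
        rw [← map_mul]
        exact (Ideal.Quotient.eq.2 (hFmul x y)).symm
      map_zero' := by
        have h := hFadd 0 0
        rw [add_zero, left_eq_add] at h
        rw [h, map_zero]
      map_add' := fun x y => by rw [hFadd, map_add] }
  have hP0 : ∀ (i : Fin n) (c : P), D i c = 0 := fun i c => by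
    refine hPD K ((lam i).restrictScalars k ∘ₗ (TensorProduct.mk k K Ω[k⁄ℤ] 1) |>.compDer
      (KaehlerDifferential.D ℤ k)) _ c.2
  letI : Algebra P R := (MvPowerSeries.C.comp ((algebraMap k K).comp (algebraMap P k))).toAlgebra
  let f₁ : k →ₐ[P] R ⧸ 𝔫 ^ 2 :=
    { f₀ with
      commutes' := fun c => by
        show Ideal.Quotient.mk _ (F (algebraMap P k c)) = Ideal.Quotient.mk _ (algebraMap P R c)
        refine congrArg _ ?_
        show _ + N _ = MvPowerSeries.C (algebraMap k K (algebraMap P k c))
        rw [show N (algebraMap P k c) = 0 from Finset.sum_eq_zero fun i _ => by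
          rw [show D i (algebraMap P k c) = 0 from hP0 i c, map_zero, zero_mul], add_zero] }
  obtain ⟨g, hg⟩ := CohenLib.LiftsAdic.exists_lift_complete (k := P) (A := k)
    (fun C _ _ J hJ ψ _ => ⟨Algebra.FormallySmooth.lift J ⟨2, hJ⟩ ψ, Algebra.FormallySmooth.comp_lift J ⟨2, hJ⟩ ψ⟩)
    𝔫 f₁ fun x hx => by
      rw [IsLocalRing.maximalIdeal_eq_bot, Ideal.mem_bot] at hx
      rw [hx, map_zero]
      exact zero_mem _
  letI algR : Algebra k R := g.toRingHom.toAlgebra
  have hgmem : ∀ c, algebraMap k R c - F c ∈ 𝔫 ^ 2 := fun c => Ideal.Quotient.eq.1 (hg c)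
  -- constant and linear coefficients
  have hc0 : ∀ f ∈ 𝔫, MvPowerSeries.constantCoeff f = 0 := fun f hf => by
    rw [show 𝔫 = RingHom.ker (MvPowerSeries.constantCoeff (σ := Fin n) (R := K)) from
      (CohenLib.ker_constantCoeff K).symm] at hf
    exact RingHom.mem_ker.1 hf
  let cf : Fin n → R → K := fun i f => MvPowerSeries.coeff (Finsupp.single i 1) f
  have hcfmul : ∀ i f f', cf i (f * f') =
      MvPowerSeries.constantCoeff f * cf i f' + MvPowerSeries.constantCoeff f' * cf i f := fun i f f' => by
    show MvPowerSeries.coeff (Finsupp.single i 1) (f * f') = _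
    rw [MvPowerSeries.coeff_mul, Finsupp.antidiagonal_single]
    simp [cf, show Finset.antidiagonal (1 : ℕ) = {(0, 1), (1, 0)} from rfl, mul_comm]
  have hcf2 : ∀ i, ∀ f ∈ 𝔫 ^ 2, cf i f = 0 := fun i f hf => by
    rw [pow_two] at hf
    refine Submodule.mul_induction_on hf (fun a ha a' ha' => ?_) fun a a' ha ha' => ?_
    · rw [hcfmul, hc0 a ha, hc0 a' ha', zero_mul, zero_mul, add_zero]
    · simp only [cf] at ha ha' ⊢
      rw [map_add, ha, ha', add_zero]
  have hg0 : ∀ c, MvPowerSeries.constantCoeff (algebraMap k R c) = algebraMap k K c := fun c => by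
    have h1 := hc0 _ (Ideal.pow_le_self (two_ne_zero) (hgmem c))
    rw [map_sub, map_add, MvPowerSeries.constantCoeff_C, hc0 _ (hN c), add_zero, sub_eq_zero] at h1
    exact h1
  have hg1 : ∀ i c, cf i (algebraMap k R c) = D i c := fun i c => by
    have h1 := hcf2 i _ (hgmem c)
    simp only [cf, F, N, map_sub, map_add, map_sum] at h1
    rw [sub_eq_zero] at h1
    show MvPowerSeries.coeff (Finsupp.single i 1) (algebraMap k R c) = _
    rw [h1, MvPowerSeries.coeff_C, if_neg (by simp), zero_add, Finset.sum_eq_single i]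
    · rw [MvPowerSeries.coeff_C_mul, MvPowerSeries.coeff_index_single_self_X, mul_one]
    · intro j _ hji
      rw [MvPowerSeries.coeff_C_mul, MvPowerSeries.coeff_index_single_X, if_neg (fun h => hji h.symm), mul_zero]
    · exact fun h => absurd (Finset.mem_univ i) h
  -- the residue field
  have hm : maximalIdeal R = 𝔫 := CohenLib.maximalIdeal_mvPowerSeries_field K n
  let η : K →+* ResidueField R := (residue R).comp MvPowerSeries.C
  have hres : ∀ f, residue R f = η (MvPowerSeries.constantCoeff f) := fun f => by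
    refine Ideal.Quotient.eq.2 ?_
    rw [hm, show 𝔫 = RingHom.ker (MvPowerSeries.constantCoeff (σ := Fin n) (R := K)) from
      (CohenLib.ker_constantCoeff K).symm, RingHom.mem_ker, map_sub, MvPowerSeries.constantCoeff_C, sub_self]
  let e : ResidueField R ≃ₐ[k] K := AlgEquiv.symm <| AlgEquiv.ofBijective
    { η with
      commutes' := fun c => by
        show η (algebraMap k K c) = algebraMap k (ResidueField R) c
        rw [IsScalarTower.algebraMap_apply k R (ResidueField R), ResidueField.algebraMap_eq, hres, hg0] }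
    ⟨η.injective, fun z => by
      obtain ⟨f, rfl⟩ := residue_surjective z
      exact ⟨_, (hres f).symm⟩⟩
  have he : ∀ f, e (residue R f) = MvPowerSeries.constantCoeff f := fun f => by
    rw [hres f]
    exact AlgEquiv.symm_apply_apply _ _
  refine ⟨R, inferInstance, inferInstance, inferInstance, algR, hm ▸ inferInstance, ?_, ⟨e⟩,
    CohenLib.ringKrullDim_mvPowerSeries_field K n⟩
  refine adicFS_of_extend e fun D₁ => ?_
  let φ : K ⊗[k] Ω[k⁄ℤ] →ₗ[K] K := D₁.liftKaehlerDifferential.liftBaseChange K
  let a : Fin n → K := fun i => if h : (i : ℕ) < υ then φ (b ⟨i, h⟩).1 else 0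
  let φ' : K ⊗[k] Ω[k⁄ℤ] →ₗ[K] K := φ - ∑ i, a i • lam i
  have hφ' : LinearMap.ker m ≤ LinearMap.ker φ' := by
    have h0 : φ'.comp (Submodule.subtype Υ) = 0 := b.ext fun j => by
      simp only [φ', LinearMap.comp_apply, LinearMap.sub_apply, LinearMap.sum_apply, LinearMap.smul_apply,
        LinearMap.zero_apply, Submodule.subtype_apply, hlam]
      rw [Finset.sum_eq_single ⟨j, lt_of_lt_of_le j.2 hn⟩]
      · simp [a]
        rw [if_pos (show (j : ℕ) < υ from j.2), sub_self]
      · intro i _ hi
        rw [if_neg fun h => hi (Fin.ext h.symm), smul_zero]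
      · exact fun h => absurd (Finset.mem_univ _) h
    exact fun z hz => LinearMap.congr_fun h0 ⟨z, hz⟩
  obtain ⟨ψ', hψ'⟩ := LinearMap.exists_extend ((LinearMap.ker m).liftQ φ' hφ' ∘ₗ m.quotKerEquivRange.symm.toLinearMap)
  have hψm : ∀ z, ψ' (m z) = φ' z := fun z => by
    have h1 := LinearMap.congr_fun hψ' ⟨m z, z, rfl⟩
    rw [LinearMap.comp_apply, LinearMap.comp_apply, LinearEquiv.coe_coe,
      show m.quotKerEquivRange.symm ⟨m z, z, rfl⟩ = Submodule.Quotient.mk z from
        (LinearEquiv.symm_apply_eq _).2 rfl] at h1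
    exact h1
  let E : R → K := fun f => ψ' (KaehlerDifferential.D ℤ K (MvPowerSeries.constantCoeff f)) + ∑ i, a i * cf i f
  have hEadd : ∀ f f', E (f + f') = E f + E f' := fun f f' => by
    simp only [E, cf, map_add, mul_add, Finset.sum_add_distrib]
    ring
  have hEmul : ∀ f f', E (f * f') = MvPowerSeries.constantCoeff f * E f' + MvPowerSeries.constantCoeff f' * E f := by
    intro f f'
    simp only [E, map_mul, Derivation.leibniz, map_add, map_smul, smul_eq_mul, hcfmul, mul_add, Finset.sum_add_distrib,
      Finset.mul_sum, mul_left_comm (a _)]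
    ring
  refine ⟨E, hEadd, fun f f' => by rw [he, he, hEmul], fun c => ?_⟩
  have h1 : m ((1 : K) ⊗ₜ KaehlerDifferential.D ℤ k c) = KaehlerDifferential.D ℤ K (algebraMap k K c) := by
    rw [KaehlerDifferential.mapBaseChange_tmul, one_smul, KaehlerDifferential.map_D]
  simp only [E, hg0, hg1, ← h1, hψm, φ', LinearMap.sub_apply, LinearMap.sum_apply, LinearMap.smul_apply,
    smul_eq_mul, D, sub_add_cancel]
  rw [LinearMap.liftBaseChange_tmul, one_smul, Derivation.liftKaehlerDifferential_comp_D]

end ImperfLib
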