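import Groth.Agent.ImperfLib.Index
import Groth.Prelude.Def_EGA41
import Mathlib.RingTheory.Kaehler.Basic
import Mathlib.RingTheory.Kaehler.TensorProduct
import Mathlib.RingTheory.Smooth.Kaehler
import Mathlib.RingTheory.Smooth.Basic
import Mathlib.RingTheory.Ideal.Cotangent
import Mathlib.LinearAlgebra.TensorProduct.RightExactness
import Mathlib.RingTheory.TensorProduct.Maps

/-!
# Differentials of a local algebra over a field at the closed point
-/

set_option autoImplicit false
set_option linter.style.haveILetI false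

universe u

open TensorProduct IsLocalRing

namespace ImperfLib

variable (k A K : Type u) [Field k] [CommRing A] [Field K] [Algebra k A] [Algebra A K] [Algebra k K]
  [IsScalarTower k A K]

/-- The kernel of `K ⊗ Ω_A → Ω_K`. -/
noncomputable abbrev conormal : Submodule K (K ⊗[A] Ω[A⁄ℤ]) :=
  LinearMap.ker (KaehlerDifferential.mapBaseChange ℤ A K)

omit [Algebra k A] [Algebra k K] [IsScalarTower k A K] in
theorem conormal_eq_span (hs : Function.Surjective (algebraMap A K)) (s : Set A)
    (hspan : Ideal.span s = RingHom.ker (algebraMap A K)) :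
    conormal A K = Submodule.span K ((fun x => (1 : K) ⊗ₜ[A] KaehlerDifferential.D ℤ A x) '' s) := by
  refine le_antisymm (fun z hz => ?_) (Submodule.span_le.2 ?_)
  · obtain ⟨c, rfl⟩ := (KaehlerDifferential.exact_kerCotangentToTensor_mapBaseChange ℤ A K hs z).1 hz
    obtain ⟨⟨x, hx⟩, rfl⟩ := Ideal.toCotangent_surjective _ c
    rw [KaehlerDifferential.kerCotangentToTensor_toCotangent]
    have key : ∀ y ∈ Submodule.span A s, (1 : K) ⊗ₜ[A] KaehlerDifferential.D ℤ A y ∈
        Submodule.span K ((fun x => (1 : K) ⊗ₜ[A] KaehlerDifferential.D ℤ A x) '' s) := by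
      intro y hy
      induction hy using Submodule.span_induction with
      | mem y hy => exact Submodule.subset_span ⟨y, hy, rfl⟩
      | zero => simp
      | add x y _ _ hx hy =>
        rw [map_add, TensorProduct.tmul_add]
        exact Submodule.add_mem _ hx hy
      | smul a x hx ih =>
        have h0 : algebraMap A K x = 0 := RingHom.mem_ker.1 (hspan ▸ hx)
        rw [smul_eq_mul, Derivation.leibniz, TensorProduct.tmul_add, TensorProduct.tmul_smul,
          TensorProduct.tmul_smul, ← algebraMap_smul K a, ← algebraMap_smul K x, h0, zero_smul, add_zero]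
        exact Submodule.smul_mem _ _ ih
    exact key x (hspan.ge hx)
  · rintro _ ⟨x, hx, rfl⟩
    refine (KaehlerDifferential.exact_kerCotangentToTensor_mapBaseChange ℤ A K hs _).2
      ⟨Ideal.toCotangent _ ⟨x, hspan ▸ Ideal.subset_span hx⟩, ?_⟩
    rw [KaehlerDifferential.kerCotangentToTensor_toCotangent]

omit [Algebra k A] [Algebra k K] [IsScalarTower k A K] in
theorem finite_conormal (hs : Function.Surjective (algebraMap A K)) (hfg : (RingHom.ker (algebraMap A K)).FG) :
    Module.Finite K (conormal A K) := by
  classical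
  obtain ⟨s, hs'⟩ := hfg
  rw [Module.Finite.iff_fg, conormal_eq_span A K hs _ hs', ← Finset.coe_image]
  exact ⟨_, rfl⟩

/-- The base change of `A ⊗ Ω_k → Ω_A` to the closed point. -/
noncomputable def fromBase : K ⊗[k] Ω[k⁄ℤ] →ₗ[K] K ⊗[A] Ω[A⁄ℤ] :=
  ((KaehlerDifferential.mapBaseChange ℤ k A).baseChange K) ∘ₗ
    (AlgebraTensorModule.cancelBaseChange k A K K Ω[k⁄ℤ]).symm.toLinearMap

/-- The projection to relative differentials. -/
noncomputable def toRel : K ⊗[A] Ω[A⁄ℤ] →ₗ[K] K ⊗[A] Ω[A⁄k] :=
  (KaehlerDifferential.map ℤ k A A).baseChange K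

theorem exact_fromBase_toRel : Function.Exact (fromBase k A K) (toRel k A K) := by
  intro y
  have h := lTensor_exact K (KaehlerDifferential.exact_mapBaseChange_map ℤ k A)
    (KaehlerDifferential.map_surjective ℤ k A) y
  refine ⟨fun hy => ?_, fun ⟨w, hw⟩ => ?_⟩
  · obtain ⟨w, hw⟩ := h.1 hy
    refine ⟨AlgebraTensorModule.cancelBaseChange k A K K Ω[k⁄ℤ] w, ?_⟩
    show (KaehlerDifferential.mapBaseChange ℤ k A).baseChange K
      ((AlgebraTensorModule.cancelBaseChange k A K K Ω[k⁄ℤ]).symm _) = y
    rw [LinearEquiv.symm_apply_apply]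
    exact hw
  · exact h.2 ⟨_, hw⟩

omit [Algebra k K] [IsScalarTower k A K] in
theorem toRel_surjective : Function.Surjective (toRel k A K) :=
  LinearMap.lTensor_surjective K (KaehlerDifferential.map_surjective ℤ k A)

theorem comp_fromBase :
    KaehlerDifferential.mapBaseChange ℤ A K ∘ₗ fromBase k A K = KaehlerDifferential.mapBaseChange ℤ k K := by
  refine TensorProduct.AlgebraTensorModule.ext fun l ω => ?_
  have hω : ω ∈ Submodule.span k (Set.range (KaehlerDifferential.D ℤ k)) := by
    rw [KaehlerDifferential.span_range_derivation]; trivial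
  induction hω using Submodule.span_induction generalizing l with
  | zero => simp
  | add x y _ _ hx hy => simp only [TensorProduct.tmul_add, map_add, hx, hy]
  | smul c x _ hx =>
    rw [TensorProduct.tmul_smul, TensorProduct.smul_tmul']
    exact hx (c • l)
  | mem y hy =>
    obtain ⟨c, rfl⟩ := hy
    show KaehlerDifferential.mapBaseChange ℤ A K ((KaehlerDifferential.mapBaseChange ℤ k A).baseChange K
      ((AlgebraTensorModule.cancelBaseChange k A K K Ω[k⁄ℤ]).symm (l ⊗ₜ KaehlerDifferential.D ℤ k c))) = _
    rw [AlgebraTensorModule.cancelBaseChange_symm_tmul, LinearMap.baseChange_tmul,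
      KaehlerDifferential.mapBaseChange_tmul, KaehlerDifferential.mapBaseChange_tmul, one_smul,
      KaehlerDifferential.map_D, KaehlerDifferential.mapBaseChange_tmul, KaehlerDifferential.map_D,
      KaehlerDifferential.map_D, IsScalarTower.algebraMap_apply k A K]

omit [IsScalarTower k A K] in
theorem finite_coker_iff :
    Module.Finite K ((Ω[K⁄ℤ]) ⧸ LinearMap.range (KaehlerDifferential.mapBaseChange ℤ k K)) ↔ Module.Finite K Ω[K⁄k] :=
  have e := (Submodule.quotEquivOfEq _ _ (KaehlerDifferential.range_mapBaseChange ℤ k K)).trans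
    (LinearMap.quotKerEquivOfSurjective _ (KaehlerDifferential.map_surjective ℤ k K))
  ⟨fun _ => Module.Finite.equiv e, fun _ => Module.Finite.equiv e.symm⟩

omit [Algebra k A] [IsScalarTower k A K] in
theorem finrank_coker :
    Module.finrank K ((Ω[K⁄ℤ]) ⧸ LinearMap.range (KaehlerDifferential.mapBaseChange ℤ k K)) =
      Module.finrank K Ω[K⁄k] :=
  ((Submodule.quotEquivOfEq _ _ (KaehlerDifferential.range_mapBaseChange ℤ k K)).trans
    (LinearMap.quotKerEquivOfSurjective _ (KaehlerDifferential.map_surjective ℤ k K))).finrank_eq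

/-- The fundamental dimension formula. -/
theorem imperfection_formula (hs : Function.Surjective (algebraMap A K)) (hfg : (RingHom.ker (algebraMap A K)).FG)
    (hinj : Function.Injective ((KaehlerDifferential.mapBaseChange ℤ k A).lTensor K)) :
    Module.Finite K (EGA41.imperfection ℤ k K) ∧
      Module.finrank K (EGA41.imperfection ℤ k K) ≤ Module.finrank K (conormal A K) ∧
      (Module.Finite K (K ⊗[A] Ω[A⁄k]) → Module.Finite K Ω[K⁄k]) ∧
      (Module.Finite K Ω[K⁄k] → Module.Finite K (K ⊗[A] Ω[A⁄k]) ∧
        Module.finrank K (K ⊗[A] Ω[A⁄k]) + Module.finrank K (EGA41.imperfection ℤ k K) =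
          Module.finrank K (conormal A K) + Module.finrank K Ω[K⁄k]) := by
  haveI := finite_conormal A K hs hfg
  have hex : Function.Exact (conormal A K).subtype (KaehlerDifferential.mapBaseChange ℤ A K) :=
    LinearMap.exact_subtype_ker_map _
  obtain ⟨h1, h2, h3, h4⟩ := finrank_formula (K := K) (C := (conormal A K)) (conormal A K).subtype (KaehlerDifferential.mapBaseChange ℤ A K)
    (fromBase k A K) (toRel k A K) (Submodule.injective_subtype _)
    (hinj.comp (AlgebraTensorModule.cancelBaseChange k A K K Ω[k⁄ℤ]).symm.injective)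
    hex (by
      intro ω
      have hω : ω ∈ Submodule.span K (Set.range (KaehlerDifferential.D ℤ K)) := by
        rw [KaehlerDifferential.span_range_derivation]; trivial
      induction hω using Submodule.span_induction with
      | mem y hy =>
        obtain ⟨c, rfl⟩ := hy
        obtain ⟨a, rfl⟩ := hs c
        refine ⟨(1 : K) ⊗ₜ KaehlerDifferential.D ℤ A a, ?_⟩
        rw [KaehlerDifferential.mapBaseChange_tmul, KaehlerDifferential.map_D, one_smul]
      | zero => exact ⟨0, map_zero _⟩
      | add x y _ _ hx hy =>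
        obtain ⟨a, rfl⟩ := hx; obtain ⟨b, rfl⟩ := hy
        exact ⟨a + b, map_add _ _ _⟩
      | smul c x _ hx =>
        obtain ⟨a, rfl⟩ := hx
        exact ⟨c • a, map_smul _ _ _⟩)
    (exact_fromBase_toRel k A K) (toRel_surjective k A K)
  rw [comp_fromBase] at h1 h2 h3 h4
  rw [finite_coker_iff] at h3
  rw [finite_coker_iff, finrank_coker] at h4
  exact ⟨h1, h2, h3, h4⟩

omit [Algebra k K] [IsScalarTower k A K] [Algebra k A] in
/-- A section modulo the square of the kernel makes the conormal map injective. -/
theorem injective_conormal (P : Type u) [CommRing P] [Algebra P A] [Algebra P K] [IsScalarTower P A K]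
    [Algebra.FormallySmooth P K] (hs : Function.Surjective (algebraMap A K)) :
    Function.Injective (KaehlerDifferential.kerCotangentToTensor ℤ A K) := by
  let π := IsScalarTower.toAlgHom P A K
  have hJ : (RingHom.ker π.kerSquareLift.toRingHom) ^ 2 = ⊥ := by
    rw [AlgHom.ker_kerSquareLift, Ideal.cotangentIdeal_square]
  have hsurj : Function.Surjective π.kerSquareLift := fun c => by
    obtain ⟨a, rfl⟩ := hs c
    exact ⟨Ideal.Quotient.mk _ a, rfl⟩
  let g := Algebra.FormallySmooth.liftOfSurjective (AlgHom.id P K) π.kerSquareLift hsurj ⟨2, hJ⟩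
  obtain ⟨l, hl⟩ := (retractionKerCotangentToTensorEquivSection (R := ℤ) (P := A) (S := K)
    hs).symm ⟨g.toRingHom.toIntAlgHom, AlgHom.ext fun c =>
      Algebra.FormallySmooth.liftOfSurjective_apply (AlgHom.id P K) π.kerSquareLift hsurj ⟨2, hJ⟩ c⟩
  exact Function.LeftInverse.injective (g := l) fun c => LinearMap.congr_fun hl c

omit [Algebra k K] [IsScalarTower k A K] [Algebra k A] in
theorem ker_eq_maximalIdeal [IsLocalRing A] (hs : Function.Surjective (algebraMap A K)) :
    RingHom.ker (algebraMap A K) = maximalIdeal A :=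
  IsLocalRing.eq_maximalIdeal (RingHom.ker_isMaximal_of_surjective _ hs)

omit [Algebra k K] [IsScalarTower k A K] [Algebra k A] in
/-- The conormal space has the dimension of the cotangent space when the conormal map is injective. -/
theorem finrank_conormal_eq [IsLocalRing A] (hs : Function.Surjective (algebraMap A K))
    (h : Function.Injective (KaehlerDifferential.kerCotangentToTensor ℤ A K)) :
    Module.finrank K (conormal A K) = Module.finrank (ResidueField A) (CotangentSpace A) := by
  have hr : ∀ {I J : Ideal A}, I = J → Nonempty (I.Cotangent ≃ₗ[A] J.Cotangent) := fun h => by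
    subst h; exact ⟨LinearEquiv.refl A _⟩
  obtain ⟨e₀⟩ := hr (ker_eq_maximalIdeal A K hs).symm
  let f : CotangentSpace A →ₗ[A] conormal A K :=
    LinearMap.codRestrict ((conormal A K).restrictScalars A)
      ((KaehlerDifferential.kerCotangentToTensor ℤ A K) ∘ₗ e₀.toLinearMap)
      fun c => (KaehlerDifferential.exact_kerCotangentToTensor_mapBaseChange ℤ A K hs _).2 ⟨e₀ c, rfl⟩
  have hf : Function.Bijective f := by
    refine ⟨fun a b hab => e₀.injective (h (congrArg Subtype.val hab)), fun z => ?_⟩
    obtain ⟨c, hc⟩ := (KaehlerDifferential.exact_kerCotangentToTensor_mapBaseChange ℤ A K hs z.1).1 z.2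
    refine ⟨e₀.symm c, Subtype.ext ?_⟩
    show KaehlerDifferential.kerCotangentToTensor ℤ A K (e₀ (e₀.symm c)) = _
    rw [e₀.apply_symm_apply]
    exact hc
  haveI : IsLocalHom (algebraMap A K) := IsLocalHom.of_surjective _ hs
  let i : ResidueField A →+* K := Ideal.Quotient.lift _ (algebraMap A K) fun a ha =>
    RingHom.mem_ker.1 ((ker_eq_maximalIdeal A K hs).ge ha)
  have hi : Function.Bijective i := ⟨i.injective, fun c => by
    obtain ⟨a, rfl⟩ := hs c
    exact ⟨residue A a, rfl⟩⟩
  refine (congrArg Cardinal.toNat (rank_eq_of_equiv_equiv (R := ResidueField A) (R' := K) i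
    (LinearEquiv.ofBijective f hf).toAddEquiv hi fun r m => ?_)).symm
  obtain ⟨a, rfl⟩ := residue_surjective r
  show f (algebraMap A (ResidueField A) a • m) = algebraMap A K a • f m
  rw [algebraMap_smul, algebraMap_smul, map_smul]

end ImperfLib
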