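import Mathlib.LinearAlgebra.FiniteDimensional.Lemmas
import Mathlib.LinearAlgebra.Isomorphisms
import Mathlib.Algebra.Exact.Basic

/-!
# A cross of two short exact sequences of vector spaces
-/

set_option autoImplicit false

universe u

namespace ImperfLib

variable {K C X Q W Z : Type u} [Field K] [AddCommGroup C] [Module K C] [AddCommGroup X] [Module K X]
  [AddCommGroup Q] [Module K Q] [AddCommGroup W] [Module K W] [AddCommGroup Z] [Module K Z]
  (i : C →ₗ[K] X) (p : X →ₗ[K] Q) (j : W →ₗ[K] X) (q : X →ₗ[K] Z)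

theorem map_ker_comp (hq : Function.Exact j q) :
    (LinearMap.ker (q ∘ₗ i)).map i = LinearMap.range i ⊓ LinearMap.range j := by
  ext x
  simp only [Submodule.mem_map, LinearMap.mem_ker, LinearMap.comp_apply, Submodule.mem_inf, LinearMap.mem_range]
  constructor
  · rintro ⟨c, hc, rfl⟩
    exact ⟨⟨c, rfl⟩, (hq _).1 hc⟩
  · rintro ⟨⟨c, rfl⟩, hw⟩
    exact ⟨c, (hq _).2 hw, rfl⟩

/-- The kernels of the two diagonal maps agree. -/
theorem exists_ker_equiv (hi : Function.Injective i) (hj : Function.Injective j) (hp : Function.Exact i p)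
    (hq : Function.Exact j q) : Nonempty (LinearMap.ker (q ∘ₗ i) ≃ₗ[K] LinearMap.ker (p ∘ₗ j)) :=
  ⟨((Submodule.equivMapOfInjective i hi _).trans (LinearEquiv.ofEq _ _ ((map_ker_comp i j q hq).trans
    ((inf_comm _ _).trans (map_ker_comp j i p hp).symm)))).trans (Submodule.equivMapOfInjective j hj _).symm⟩

theorem exists_coker_equiv (hp : Function.Exact i p) (hp' : Function.Surjective p) :
    Nonempty ((X ⧸ (LinearMap.range i ⊔ LinearMap.range j)) ≃ₗ[K] Q ⧸ LinearMap.range (p ∘ₗ j)) := by
  have hker : LinearMap.ker ((LinearMap.range (p ∘ₗ j)).mkQ ∘ₗ p) = LinearMap.range i ⊔ LinearMap.range j := by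
    rw [LinearMap.ker_comp, Submodule.ker_mkQ, LinearMap.range_comp, Submodule.comap_map_eq,
      LinearMap.exact_iff.1 hp, sup_comm]
  exact ⟨(Submodule.quotEquivOfEq _ _ hker.symm).trans
    (LinearMap.quotKerEquivOfSurjective _ ((Submodule.mkQ_surjective _).comp hp'))⟩

/-- The dimension formula for the cross of two exact sequences. -/
theorem finrank_formula (hi : Function.Injective i) (hj : Function.Injective j) (hp : Function.Exact i p)
    (hp' : Function.Surjective p) (hq : Function.Exact j q) (hq' : Function.Surjective q) [Module.Finite K C] :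
    Module.Finite K (LinearMap.ker (p ∘ₗ j)) ∧ Module.finrank K (LinearMap.ker (p ∘ₗ j)) ≤ Module.finrank K C ∧
      (Module.Finite K Z → Module.Finite K (Q ⧸ LinearMap.range (p ∘ₗ j))) ∧
      (Module.Finite K (Q ⧸ LinearMap.range (p ∘ₗ j)) → Module.Finite K Z ∧
        Module.finrank K Z + Module.finrank K (LinearMap.ker (p ∘ₗ j)) =
          Module.finrank K C + Module.finrank K (Q ⧸ LinearMap.range (p ∘ₗ j))) := by
  obtain ⟨e⟩ := exists_ker_equiv i p j q hi hj hp hq
  obtain ⟨e₁⟩ := exists_coker_equiv i p j hp hp'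
  obtain ⟨e₂⟩ := exists_coker_equiv j q i hq hq'
  let e₃ : (Q ⧸ LinearMap.range (p ∘ₗ j)) ≃ₗ[K] Z ⧸ LinearMap.range (q ∘ₗ i) :=
    e₁.symm.trans ((Submodule.quotEquivOfEq _ _ (sup_comm _ _)).trans e₂)
  haveI : Module.Finite K (LinearMap.range (q ∘ₗ i)) := Module.Finite.range _
  refine ⟨Module.Finite.equiv e, ?_, fun h => Module.Finite.equiv e₃.symm, fun h => ?_⟩
  · rw [← e.finrank_eq]
    exact Submodule.finrank_le _
  · haveI : Module.Finite K (Z ⧸ LinearMap.range (q ∘ₗ i)) := Module.Finite.equiv e₃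
    haveI : Module.Finite K Z := Module.Finite.of_submodule_quotient (LinearMap.range (q ∘ₗ i))
    refine ⟨inferInstance, ?_⟩
    rw [← e.finrank_eq, e₃.finrank_eq, ← LinearMap.finrank_range_add_finrank_ker (q ∘ₗ i),
      ← Submodule.finrank_quotient_add_finrank (LinearMap.range (q ∘ₗ i))]
    omega

end ImperfLib
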