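import Groth.Agent.ImperfLib.Formula
import Groth.Agent.CohenLib.DerExt
import Groth.Prelude.Def_CAlgX
import Mathlib.RingTheory.RegularLocalRing.Defs

/-!
# Formally smooth local algebras over a field: residue field and dimension
-/

set_option autoImplicit false
set_option linter.style.haveILetI false

universe u

open TensorProduct IsLocalRing

namespace ImperfLib

variable {k A : Type u} (K : Type u) [Field k] [CommRing A] [IsLocalRing A] [IsNoetherianRing A] [Field K]
  [Algebra k A] [Algebra A K] [Algebra k K] [IsScalarTower k A K]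

omit [IsNoetherianRing A] in
theorem injective_of_adicFS (hfs : CAlgX.IsAdicFormallySmooth k A (maximalIdeal A))
    (hs : Function.Surjective (algebraMap A K)) :
    Function.Injective ((KaehlerDifferential.mapBaseChange ℤ k A).lTensor K) := by
  have h := (CohenLib.injective_lTensor_iff ℤ k A (ResidueField A)).1 (CohenLib.LiftsAdic.injective_lTensor
    (fun C _ _ J hJ ψ hψ => hfs C J hJ ψ hψ))
  rw [CohenLib.injective_lTensor_iff]
  intro D
  have hm := ker_eq_maximalIdeal A K hs
  let i : ResidueField A →+* K := Ideal.Quotient.lift _ (algebraMap A K) fun a ha => RingHom.mem_ker.1 (hm.ge ha)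
  have hi : Function.Bijective i := ⟨i.injective, fun c => by
    obtain ⟨a, rfl⟩ := hs c
    exact ⟨residue A a, rfl⟩⟩
  let e := RingEquiv.ofBijective i hi
  have hea : ∀ a, e (residue A a) = algebraMap A K a := fun a => rfl
  have hek : ∀ c : k, e (algebraMap k (ResidueField A) c) = algebraMap k K c := fun c => by
    rw [IsScalarTower.algebraMap_apply k A (ResidueField A), IsScalarTower.algebraMap_apply k A K]
    exact hea _
  let D₀ : Derivation ℤ k (ResidueField A) := Derivation.mk'
    (e.symm.toAddEquiv.toAddMonoidHom.comp D.toLinearMap.toAddMonoidHom).toIntLinearMap fun x y => by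
      show e.symm (D (x * y)) = x • e.symm (D y) + y • e.symm (D x)
      refine e.injective ?_
      rw [e.apply_symm_apply, D.leibniz, Algebra.smul_def, Algebra.smul_def, Algebra.smul_def, Algebra.smul_def,
        map_add e, map_mul e, map_mul e, e.apply_symm_apply, e.apply_symm_apply, hek, hek]
  obtain ⟨D', hD'⟩ := h D₀
  refine ⟨Derivation.mk' (e.toAddEquiv.toAddMonoidHom.comp D'.toLinearMap.toAddMonoidHom).toIntLinearMap
    fun x y => ?_, fun c => ?_⟩
  · show e (D' (x * y)) = x • e (D' y) + y • e (D' x)
    rw [D'.leibniz, map_add, Algebra.smul_def, Algebra.smul_def, map_mul, map_mul, Algebra.smul_def,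
      Algebra.smul_def]
    rfl
  · show e (D' (algebraMap k A c)) = D c
    rw [hD']
    exact e.apply_symm_apply _

/-- Formally smooth local algebras over a field satisfy the dimension formula. -/
theorem adicFS_formula (hfs : CAlgX.IsAdicFormallySmooth k A (maximalIdeal A))
    (hs : Function.Surjective (algebraMap A K)) :
    ∃ d : ℕ, ringKrullDim A = d ∧ Module.Finite K (EGA41.imperfection ℤ k K) ∧
      Module.finrank K (EGA41.imperfection ℤ k K) ≤ d ∧
      (Module.Finite K (K ⊗[A] Ω[A⁄k]) → Module.Finite K Ω[K⁄k]) ∧
      (Module.Finite K Ω[K⁄k] → Module.Finite K (K ⊗[A] Ω[A⁄k]) ∧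
        Module.finrank K (K ⊗[A] Ω[A⁄k]) + Module.finrank K (EGA41.imperfection ℤ k K) =
          d + Module.finrank K Ω[K⁄k]) := by
  haveI hreg : IsRegularLocalRing A := CohenLib.isRegularLocalRing_of_liftsAdic'
    (fun C _ _ J hJ ψ hψ => hfs C J hJ ψ hψ)
  obtain ⟨P, hP, -⟩ := CohenLib.exists_perfect_subfield k
  haveI : IsScalarTower P A K := IsScalarTower.of_algebraMap_eq fun c =>
    IsScalarTower.algebraMap_apply k A K (algebraMap P k c)
  haveI : Algebra.FormallySmooth P K := Groth.Agent.PerfectFieldLib.formallySmooth_of_perfectField P K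
  have hfg : (RingHom.ker (algebraMap A K)).FG := IsNoetherian.noetherian _
  obtain ⟨h1, h2, h3, h4⟩ := imperfection_formula k A K hs hfg (injective_of_adicFS K hfs hs)
  have hd := finrank_conormal_eq A K hs (injective_conormal A K P hs)
  rw [hd] at h2 h4
  refine ⟨Module.finrank (ResidueField A) (CotangentSpace A), ?_, h1, h2, h3, h4⟩
  rw [← spanFinrank_maximalIdeal_eq_finrank_cotangentSpace, ← (isRegularLocalRing_iff A).1 hreg]

end ImperfLib
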