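import Groth.Agent.CohenLib.DerExt
import Groth.Prelude.Def_CAlgX

/-!
# Regular local algebras with a retraction onto the base field
-/

set_option autoImplicit false
set_option linter.style.haveILetI false

universe u

open TensorProduct IsLocalRing

namespace ImperfLib

/-- A regular local algebra over a field with a retraction inducing the residue map is formally smooth. -/
theorem adicFS_of_retraction {k A : Type u} [Field k] [CommRing A] [IsRegularLocalRing A] [Algebra k A]
    (c : A →+* k) (hc : ∀ x, c (algebraMap k A x) = x)
    (hres : ∀ a, residue A a = algebraMap k (ResidueField A) (c a)) :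
    CAlgX.IsAdicFormallySmooth k A (maximalIdeal A) := by
  refine fun C _ _ J hJ ψ hψ => CohenLib.liftsAdic_of_injective ?_ C J hJ ψ hψ
  rw [CohenLib.injective_lTensor_iff]
  intro D
  refine ⟨Derivation.mk' (D.toLinearMap.toAddMonoidHom.comp c.toAddMonoidHom).toIntLinearMap fun x y => ?_,
    fun x => congrArg D (hc x)⟩
  show D (c (x * y)) = x • D (c y) + y • D (c x)
  rw [map_mul, D.leibniz, ← algebraMap_smul (ResidueField A) x, ← algebraMap_smul (ResidueField A) y,
    ResidueField.algebraMap_eq, hres, hres, algebraMap_smul, algebraMap_smul]

end ImperfLib
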